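import Groth.Agent.LangMap.Main
import Groth.Agent.GrpAct.Basic
import Mathlib.AlgebraicGeometry.ResidueField

/-!
# Torsors over finite fields are trivial
-/

universe u

open CategoryTheory CategoryTheory.Limits MonoidalCategory CartesianMonoidalCategory MonObj AlgebraicGeometry TopologicalSpace

namespace Groth.Agent.LangMap

variable {k : Type u} [Field k] [Finite k]

/-- The only elements fixed by the `q`-power map of a field extension are those of `k`. -/
theorem mem_range_of_pow_eq {K : Type u} [Field K] [Algebra k K] {c : K} (h : c ^ Nat.card k = c) :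
    c ∈ Set.range (algebraMap k K) := by
  classical
  letI : Fintype k := Fintype.ofFinite k
  rw [Nat.card_eq_fintype_card] at h
  have h1 : 1 < Fintype.card k := Fintype.one_lt_card
  set P : Polynomial K := Polynomial.X ^ Fintype.card k - Polynomial.X with hP
  have hne : P ≠ 0 := FiniteField.X_pow_card_sub_X_ne_zero K h1
  have hc : c ∈ P.roots.toFinset := by
    rw [Multiset.mem_toFinset, Polynomial.mem_roots hne]
    simp [hP, h]
  let I : Finset K := Finset.univ.image (algebraMap k K)
  have hsub : I ⊆ P.roots.toFinset := by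
    intro x hx
    obtain ⟨a, -, rfl⟩ := Finset.mem_image.1 hx
    rw [Multiset.mem_toFinset, Polynomial.mem_roots hne]
    simp [hP, ← map_pow, FiniteField.pow_card]
  have hcard : P.roots.toFinset.card ≤ I.card := by
    rw [Finset.card_image_of_injective _ (algebraMap k K).injective, Finset.card_univ]
    exact (Multiset.toFinset_card_le _).trans ((Polynomial.card_roots' P).trans
      (FiniteField.X_pow_card_sub_X_natDegree_eq K h1).le)
  rw [← Finset.eq_of_subset_of_card_le hsub hcard] at hc
  obtain ⟨a, -, ha⟩ := Finset.mem_image.1 hc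
  exact ⟨a, ha⟩

/-- A field valued point fixed by Frobenius gives a rational point. -/
theorem exists_ratPoint_of_fixed {X : Over (Spec (CommRingCat.of k))} {K : Type u} [Field K] [Algebra k K]
    (y : specOver k K ⟶ X) (hy : specHom (frob K) ≫ y = y) :
    Nonempty (𝟙_ (Over (Spec (CommRingCat.of k))) ⟶ X) := by
  obtain ⟨⟨x, φ⟩, hφ⟩ : ∃ xf, (Scheme.SpecToEquivOfField K X.left).symm xf = y.left :=
    ⟨_, (Scheme.SpecToEquivOfField K X.left).symm_apply_apply y.left⟩
  change Spec.map φ ≫ X.left.fromSpecResidueField x = y.left at hφ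
  have hfix : φ ≫ CommRingCat.ofHom (frob (k := k) K).toRingHom = φ := by
    refine Spec.map_injective ((cancel_mono (X.left.fromSpecResidueField x)).1 ?_)
    rw [Spec.map_comp, Category.assoc, hφ]
    exact congrArg CommaMorphism.left hy
  let ψ : CommRingCat.of k ⟶ X.left.residueField x := Spec.preimage (X.left.fromSpecResidueField x ≫ X.hom)
  have hψ : ψ ≫ φ = CommRingCat.ofHom (algebraMap k K) := by
    refine Spec.map_injective ?_
    rw [Spec.map_comp, Spec.map_preimage, ← Category.assoc, hφ]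
    exact Over.w y
  have hbij : Function.Bijective ψ.hom := by
    refine ⟨ψ.hom.injective, fun c => ?_⟩
    obtain ⟨a, ha⟩ := mem_range_of_pow_eq (k := k) (c := φ.hom c)
      ((frob_apply _).symm.trans (congrArg (fun g => CommRingCat.Hom.hom g c) hfix))
    exact ⟨a, φ.hom.injective ((congrArg (fun g => CommRingCat.Hom.hom g a) hψ).trans ha)⟩
  haveI : IsIso ψ := (ConcreteCategory.isIso_iff_bijective ψ).2 hbij
  exact ⟨Over.homMk (Spec.map (inv ψ) ≫ X.left.fromSpecResidueField x) (by
    rw [Category.assoc, ← Spec.map_preimage (X.left.fromSpecResidueField x ≫ X.hom), ← Spec.map_comp,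
      IsIso.hom_inv_id, Spec.map_id]
    rfl)⟩

/-- **Lang: torsors of connected affine groups over finite fields are trivial.** -/
theorem nonempty_ratPoint_of_torsor {G : Over (Spec (CommRingCat.of k))} [GrpObj G] [IsAffine G.left]
    [LocallyOfFiniteType G.hom] [ConnectedSpace G.left] {X : Over (Spec (CommRingCat.of k))}
    [LocallyOfFiniteType X.hom] [Nonempty X.left] (a : AlgGrp.Action G X) (F : G ⟶ G)
    (hF : ∀ s : Γ(G.left, ⊤), F.left.appTop s = s ^ Nat.card k)
    (hX : IsIso (lift a.act (snd G X))) :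
    Nonempty (𝟙_ (Over (Spec (CommRingCat.of k))) ⟶ X) := by
  haveI : JacobsonSpace X.left := LocallyOfFiniteType.jacobsonSpace X.hom
  obtain ⟨x₀⟩ := ‹Nonempty X.left›
  obtain ⟨x₁, -, hx₁⟩ := nonempty_inter_closedPoints (Z := (Set.univ : Set X.left)) ⟨x₀, trivial⟩
    isOpen_univ.isLocallyClosed
  let K := AlgebraicClosure (X.left.residueField x₁)
  let φ : CommRingCat.of k ⟶ X.left.residueField x₁ := Spec.preimage (X.left.fromSpecResidueField x₁ ≫ X.hom)
  letI : Algebra k K := ((algebraMap (X.left.residueField x₁) K).comp φ.hom).toAlgebra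
  let g : Spec (CommRingCat.of K) ⟶ X.left :=
    Spec.map (CommRingCat.ofHom (algebraMap (X.left.residueField x₁) K)) ≫ X.left.fromSpecResidueField x₁
  let x : specOver k K ⟶ X := Over.homMk g (by
    change g ≫ X.hom = Spec.map (CommRingCat.ofHom ((algebraMap (X.left.residueField x₁) K).comp φ.hom))
    rw [CommRingCat.ofHom_comp, Spec.map_comp, CommRingCat.ofHom_hom, Spec.map_preimage, Category.assoc])
  let σ := specHom (frob (k := k) K)
  let g0 : specOver k K ⟶ G := lift (σ ≫ x) x ≫ inv (lift a.act (snd G X)) ≫ fst G X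
  have hg0 : lift g0 x ≫ a.act = σ ≫ x := by
    have h : lift (σ ≫ x) x ≫ inv (lift a.act (snd G X)) = lift g0 x := by
      apply CartesianMonoidalCategory.hom_ext
      · simp [g0]
      · have e : inv (lift a.act (snd G X)) ≫ snd G X = snd X X := by
          rw [IsIso.inv_comp_eq, lift_snd]
        rw [Category.assoc, e, lift_snd, lift_snd]
    rw [← h, Category.assoc]
    have e : inv (lift a.act (snd G X)) ≫ a.act = fst X X := by
      rw [IsIso.inv_comp_eq, lift_fst]
    rw [e, lift_fst]
  obtain ⟨z, hz⟩ := exists_lang_eq F hF g0⁻¹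
  refine exists_ratPoint_of_fixed (lift z⁻¹ x ≫ a.act) ?_
  haveI := isMonHom_frob F hF
  rw [GrpAct.comp_smul, ← hg0, ← GrpAct.mul_smul, GrpObj.comp_inv, ← comp_frob F hF z]
  congr 2
  have h2 : g0 = (z * (z ≫ F)⁻¹)⁻¹ := by rw [hz, inv_inv]
  rw [h2, mul_inv_rev, inv_inv, inv_mul_cancel_left]

/-- The Frobenius of an affine scheme over a finite field exists. -/
theorem exists_frob (G : Over (Spec (CommRingCat.of k))) [IsAffine G.left] :
    ∃ F : G ⟶ G, ∀ s : Γ(G.left, ⊤), F.left.appTop s = s ^ Nat.card k := by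
  let a : CommRingCat.of k ⟶ Γ(G.left, ⊤) := (Scheme.ΓSpecIso _).inv ≫ G.hom.appTop
  letI : Algebra k Γ(G.left, ⊤) := a.hom.toAlgebra
  have h : G.left.isoSpec.inv ≫ G.hom = Spec.map a := by
    rw [Iso.inv_comp_eq, Spec.map_comp]
    change G.hom = G.left.toSpecΓ ≫ _
    rw [← reassoc_of% (Scheme.toSpecΓ_naturality G.hom)]
    simp
  let e : specOver k Γ(G.left, ⊤) ≅ G := Over.isoMk G.left.isoSpec.symm h
  refine ⟨e.inv ≫ specHom (frob _) ≫ e.hom, fun s => ?_⟩
  have hf : ∀ r, (Spec.map (CommRingCat.ofHom (frob (k := k) Γ(G.left, ⊤)).toRingHom)).appTop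
      ((Scheme.ΓSpecIso _).inv r) = (Scheme.ΓSpecIso _).inv (r ^ Nat.card k) := fun r => by
    rw [← CommRingCat.comp_apply, ← Scheme.ΓSpecIso_inv_naturality, CommRingCat.comp_apply]
    congr 1
    exact frob_apply r
  obtain ⟨r, hr⟩ : ∃ r, G.left.isoSpec.inv.appTop s = (Scheme.ΓSpecIso Γ(G.left, ⊤)).inv r :=
    ⟨(Scheme.ΓSpecIso Γ(G.left, ⊤)).hom (G.left.isoSpec.inv.appTop s), by
      rw [← CommRingCat.comp_apply (Scheme.ΓSpecIso _).hom, Iso.hom_inv_id]; rfl⟩
  change (G.left.isoSpec.hom ≫ Spec.map _ ≫ G.left.isoSpec.inv).appTop s = _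
  rw [Scheme.Hom.comp_appTop, Scheme.Hom.comp_appTop, CommRingCat.comp_apply, CommRingCat.comp_apply, hr]
  erw [hf r]
  rw [map_pow, map_pow]
  congr 1
  erw [← hr]
  rw [← CommRingCat.comp_apply, ← Scheme.Hom.comp_appTop, Iso.hom_inv_id]
  rfl

end Groth.Agent.LangMap
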