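import Groth.Agent.LangMap.Frob
import Groth.Agent.Rigid.DimDrop
import Groth.Agent.GrpField.Irreducible
import Mathlib.AlgebraicGeometry.Morphisms.FinitePresentation
import Mathlib.AlgebraicGeometry.AlgClosed.Basic

/-!
# Lang's theorem
-/

universe u

open CategoryTheory CategoryTheory.Limits MonoidalCategory CartesianMonoidalCategory MonObj AlgebraicGeometry TopologicalSpace

namespace Groth.Agent.LangMap

/-- In an irreducible space a constructible set containing the generic point contains a nonempty open. -/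
theorem exists_open_subset_of_genericPoint {α : Type*} [TopologicalSpace α] [IrreducibleSpace α] [QuasiSober α]
    {C : Set α} (hC : Topology.IsConstructible C) (h : genericPoint α ∈ C) :
    ∃ U : Set α, IsOpen U ∧ U.Nonempty ∧ U ⊆ C := by
  have key : (∃ U : Set α, IsOpen U ∧ U.Nonempty ∧ U ⊆ C) ∨ ∃ U : Set α, IsOpen U ∧ U.Nonempty ∧ U ⊆ Cᶜ := by
    clear h
    induction hC using Topology.IsConstructible.empty_union_induction with
    | open_retrocompact U hU _ =>
      rcases U.eq_empty_or_nonempty with rfl | hne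
      · exact Or.inr ⟨Set.univ, isOpen_univ, Set.univ_nonempty, by simp⟩
      · exact Or.inl ⟨U, hU, hne, subset_rfl⟩
    | union s hs t ht hs' ht' =>
      rcases hs' with ⟨U, hU, hne, hsub⟩ | ⟨U, hU, hne, hsub⟩
      · exact Or.inl ⟨U, hU, hne, hsub.trans Set.subset_union_left⟩
      rcases ht' with ⟨V, hV, hVne, hVsub⟩ | ⟨V, hV, hVne, hVsub⟩
      · exact Or.inl ⟨V, hV, hVne, hVsub.trans Set.subset_union_right⟩
      · exact Or.inr ⟨U ∩ V, hU.inter hV,
          ⟨_, ((genericPoint_spec α).mem_open_set_iff hU).2 (by simpa using hne),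
            ((genericPoint_spec α).mem_open_set_iff hV).2 (by simpa using hVne)⟩,
          fun z hz hzc => hzc.elim (hsub hz.1) (hVsub hz.2)⟩
    | compl s hs hs' =>
      rcases hs' with h | h
      · exact Or.inr (by simpa using h)
      · exact Or.inl h
  rcases key with h' | ⟨U, hU, hne, hsub⟩
  · exact h'
  · exact absurd h (hsub (((genericPoint_spec α).mem_open_set_iff hU).2 (by simpa using hne)))

variable {k : Type u} [Field k] [Finite k] {G : Over (Spec (CommRingCat.of k))} [GrpObj G] [IsAffine G.left]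
  (F : G ⟶ G) (K : Type u) [Field K] [Algebra k K]

/-- The twisted Lang map over `K`. -/
noncomputable def twist (a : specOver k K ⟶ G) : G ⊗ specOver k K ⟶ G ⊗ specOver k K :=
  lift (fst G (specOver k K) * (snd G (specOver k K) ≫ a) * (fst G (specOver k K) ≫ F)⁻¹) (snd G (specOver k K))

variable {K}

theorem lift_twist {T : Over (Spec (CommRingCat.of k))} (a : specOver k K ⟶ G) (x : T ⟶ G) (t : T ⟶ specOver k K) :
    lift x t ≫ twist F K a = lift (x * (t ≫ a) * (x ≫ F)⁻¹) t := by
  apply CartesianMonoidalCategory.hom_ext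
  · simp [twist, MonObj.comp_mul, GrpObj.comp_inv]
  · simp [twist]

theorem twist_snd (a : specOver k K ⟶ G) : (twist F K a).left ≫ (snd G (specOver k K)).left = (snd G (specOver k K)).left := by
  rw [← Over.comp_left, twist, lift_snd]

variable (hF : ∀ s : Γ(G.left, ⊤), F.left.appTop s = s ^ Nat.card k)

include hF

/-- The tangent map is injective. -/
theorem quasiFiniteAt_twist [LocallyOfFiniteType G.hom] (a : specOver k K ⟶ G) :
    (twist F K a).left.QuasiFiniteAt
      ((lift (1 : specOver k K ⟶ G) (𝟙 _)).left (IsLocalRing.closedPoint K)) := by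
  let T := specOver k K
  let p : (G ⊗ T).left ⟶ Spec (CommRingCat.of K) := (snd G T).left
  haveI : LocallyOfFiniteType p := inferInstanceAs (LocallyOfFiniteType (pullback.snd G.hom T.hom))
  haveI : IsAffine T.left := inferInstanceAs (IsAffine (Spec (CommRingCat.of K)))
  haveI : IsAffine (G ⊗ T).left := inferInstanceAs (IsAffine (pullback G.hom T.hom))
  let f := (twist F K a).left
  haveI : LocallyOfFiniteType (f ≫ p) := by rw [twist_snd]; infer_instance
  haveI : LocallyOfFiniteType f := locallyOfFiniteType_of_comp f p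
  have hF1 : ∀ {T' : Over (Spec (CommRingCat.of k))}, (1 : T' ⟶ G) ≫ F = 1 := by
    intro T'
    haveI := isMonHom_frob F hF
    exact MonObj.one_comp F
  let e0 : T ⟶ G ⊗ T := lift 1 (𝟙 T)
  let w : T ⟶ G ⊗ T := lift a (𝟙 T)
  have he0 : e0 ≫ twist F K a = w := by
    rw [lift_twist, hF1]
    simp [w]
  let j : Spec (CommRingCat.of K) ⟶ (G ⊗ T).left := w.left
  have hjp : j ≫ p = 𝟙 _ := by rw [← Over.comp_left, lift_snd]; rfl
  haveI : IsClosedImmersion j := by
    haveI : IsClosedImmersion (j ≫ p) := by rw [hjp]; infer_instance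
    exact IsClosedImmersion.of_comp j p
  let Z := pullback f j
  let iZ : Z ⟶ (G ⊗ T).left := pullback.fst f j
  let ζ : Z ⟶ Spec (CommRingCat.of K) := pullback.snd f j
  haveI : IsClosedImmersion iZ := inferInstanceAs (IsClosedImmersion (pullback.fst f j))
  haveI : LocallyOfFiniteType ζ := inferInstanceAs (LocallyOfFiniteType (pullback.snd f j))
  haveI : IsAffine Z := isAffine_of_isAffineHom iZ
  have hζ : iZ ≫ p = ζ := by
    have h : (iZ ≫ f) ≫ p = (ζ ≫ j) ≫ p := by rw [pullback.condition]
    rwa [Category.assoc, Category.assoc, twist_snd, hjp, Category.comp_id] at h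
  let z0 : Spec (CommRingCat.of K) ⟶ Z :=
    pullback.lift e0.left (𝟙 _) (by rw [← Over.comp_left, he0, Category.id_comp])
  have hz0 : z0 ≫ iZ = e0.left := pullback.lift_fst _ _ _
  let B := Γ(Z, ⊤)
  let al : CommRingCat.of K ⟶ B := (Scheme.ΓSpecIso _).inv ≫ ζ.appTop
  letI : Algebra K B := al.hom.toAlgebra
  haveI : Algebra.FiniteType K B := by
    have h : ζ.appTop.hom.FiniteType := HasRingHomProperty.appTop @LocallyOfFiniteType ζ inferInstance
    exact h.comp (RingHom.FiniteType.of_surjective _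
      (Scheme.ΓSpecIso (CommRingCat.of K)).symm.commRingCatIsoToRingEquiv.surjective)
  let χ₀ : B ⟶ CommRingCat.of K := z0.appTop ≫ (Scheme.ΓSpecIso _).hom
  have hz0ζ : z0 ≫ ζ = 𝟙 _ := pullback.lift_snd _ _ _
  have hχ₀ : al ≫ χ₀ = 𝟙 _ := by
    simp only [al, χ₀, Category.assoc]
    rw [← Scheme.Hom.comp_appTop_assoc, hz0ζ]
    simp
  let χ : B →ₐ[K] K :=
    { χ₀.hom with commutes' := fun c => congrArg (fun g => CommRingCat.Hom.hom g c) hχ₀ }
  have hiso : Z.isoSpec.inv ≫ ζ = Spec.map al := by
    rw [Iso.inv_comp_eq, Spec.map_comp]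
    change ζ = Z.toSpecΓ ≫ _
    rw [← reassoc_of% (Scheme.toSpecΓ_naturality ζ)]
    simp
  have hzspec : Spec.map χ₀ ≫ Z.isoSpec.inv = z0 := by
    rw [Iso.comp_inv_eq, Spec.map_comp]
    change _ = z0 ≫ Z.toSpecΓ
    rw [Scheme.toSpecΓ_naturality z0]
    congr 1
    rw [← SpecMap_ΓSpecIso_hom]
  have hopen : IsOpen ({z0 (IsLocalRing.closedPoint K)} : Set Z) := by
    have h := isOpen_singleton_of_derivation χ fun ψ hψ => ?_
    · have e : z0 (IsLocalRing.closedPoint K) =
          Z.isoSpec.inv (PrimeSpectrum.comap χ.toRingHom ⟨⊥, Ideal.isPrime_bot⟩) := by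
        conv_lhs => rw [← hzspec, Scheme.Hom.comp_apply]
        congr 1
        exact congrArg (PrimeSpectrum.comap χ₀.hom) (Subsingleton.elim _ _)
      rw [e, ← Set.image_singleton]
      exact Z.isoSpec.inv.homeomorph.isOpenMap _ h
    intro b
    let D := DualNumber K
    let inclD : K →ₐ[k] D := (Algebra.ofId K D).restrictScalars k
    let fstD : D →ₐ[k] K := (TrivSqZeroExt.fstHom K K K).restrictScalars k
    let π : specOver k D ⟶ T := specHom inclD
    let i0 : T ⟶ specOver k D := specHom fstD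
    let σ : Spec (CommRingCat.of D) ⟶ Z := Spec.map (CommRingCat.ofHom ψ.toRingHom) ≫ Z.isoSpec.inv
    have hσζ : σ ≫ ζ = π.left := by
      simp only [σ, Category.assoc, hiso]
      change Spec.map _ ≫ Spec.map al = Spec.map _
      rw [← Spec.map_comp]
      congr 1
      refine CommRingCat.hom_ext (RingHom.ext fun c => ?_)
      exact ψ.commutes c
    have hi0σ : i0.left ≫ σ = z0 := by
      simp only [σ, ← hzspec]
      change Spec.map _ ≫ Spec.map _ ≫ _ = _
      rw [← Spec.map_comp_assoc]
      congr 2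
      ext c
      exact hψ c
    let σP : specOver k D ⟶ G ⊗ T := Over.homMk (σ ≫ iZ) (by
      change (σ ≫ iZ) ≫ (G ⊗ T).hom = _
      rw [← Over.w (snd G T), Category.assoc, reassoc_of% hζ, reassoc_of% hσζ]
      exact Over.w π)
    have hσsnd : σP ≫ snd G T = π := Over.OverMorphism.ext (by
      change (σ ≫ iZ) ≫ p = _
      rw [Category.assoc, hζ, hσζ])
    let x := σP ≫ fst G T
    have hσ : σP = lift x π := by
      apply CartesianMonoidalCategory.hom_ext <;> simp [x, hσsnd]
    have hx : x * (π ≫ a) * (x ≫ F)⁻¹ = π ≫ a := by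
      have h : σP ≫ twist F K a = π ≫ w := Over.OverMorphism.ext (by
        change (σ ≫ iZ) ≫ f = π.left ≫ j
        rw [Category.assoc, pullback.condition, reassoc_of% hσζ])
      rw [hσ, lift_twist] at h
      have h' := congrArg (· ≫ fst G T) h
      exact (lift_fst _ _).symm.trans (h'.trans (by simp [w]))
    have hi0 : i0 ≫ x = 1 := by
      have h : i0 ≫ σP = e0 := Over.OverMorphism.ext (by
        change i0.left ≫ σ ≫ iZ = _
        rw [reassoc_of% hi0σ, hz0])
      rw [← Category.assoc i0 σP, h, lift_fst]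
    have hfrob : specHom (frob (k := k) D) = π ≫ specHom (frob (k := k) K) ≫ i0 := by
      rw [specHom_comp, specHom_comp]
      congr 1
      refine AlgHom.ext fun r => ?_
      rw [frob_apply, AlgHom.comp_apply, AlgHom.comp_apply, frob_apply]
      refine TrivSqZeroExt.ext ?_ ?_
      · rw [TrivSqZeroExt.fst_pow]; rfl
      · rw [TrivSqZeroExt.snd_pow]
        have h0 : (Nat.card k : K) = 0 := by
          letI : Fintype k := Fintype.ofFinite k
          rw [Nat.card_eq_fintype_card, ← map_natCast (algebraMap k K), Nat.cast_card_eq_zero, map_zero]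
        rw [← Nat.cast_smul_eq_nsmul K, h0, zero_smul]
        rfl
    have hxF : x ≫ F = 1 := by
      rw [comp_frob F hF, hfrob, Category.assoc, Category.assoc, hi0, MonObj.comp_one, MonObj.comp_one]
    rw [hxF, inv_one, _root_.mul_one, mul_eq_right] at hx
    have hσe : σP = π ≫ e0 := by
      rw [hσ, hx]
      simp [e0]
    have hσz : σ = π.left ≫ z0 := by
      refine (cancel_mono iZ).1 ?_
      calc σ ≫ iZ = π.left ≫ e0.left := congrArg CommaMorphism.left hσe
        _ = (π.left ≫ z0) ≫ iZ := by rw [Category.assoc, hz0]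
    rw [← hzspec] at hσz
    change _ = Spec.map _ ≫ Spec.map χ₀ ≫ _ at hσz
    rw [← Spec.map_comp_assoc, cancel_mono] at hσz
    have := congrArg TrivSqZeroExt.snd (congrArg (fun g => CommRingCat.Hom.hom g b) (Spec.map_injective hσz))
    exact this
  -- pass to the fibre
  let x0 := e0.left (IsLocalRing.closedPoint K)
  rw [Scheme.Hom.quasiFiniteAt_iff_isOpen_singleton_asFiber]
  have hfx : f x0 = j (IsLocalRing.closedPoint K) := by
    rw [← Scheme.Hom.comp_apply, ← Over.comp_left, he0]
  have hr : Set.range iZ = f ⁻¹' {f x0} := by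
    rw [Scheme.Pullback.range_fst]
    congr 1
    rw [hfx]
    ext y
    exact ⟨fun ⟨t, ht⟩ => ht ▸ congrArg j (Subsingleton.elim (α := PrimeSpectrum K) t _),
      fun h => ⟨_, h.symm⟩⟩
  obtain ⟨V, hV, hVz⟩ := iZ.isEmbedding.isInducing.isOpen_iff.1 hopen
  have key : ∀ y, y ∈ V → f y = f x0 → y = x0 := by
    intro y hy hfy
    obtain ⟨z, rfl⟩ : y ∈ Set.range iZ := hr ▸ hfy
    have : z ∈ ({z0 (IsLocalRing.closedPoint K)} : Set Z) := hVz ▸ hy
    rw [this, ← Scheme.Hom.comp_apply, hz0]
  have hx0V : x0 ∈ V := by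
    have h : z0 (IsLocalRing.closedPoint K) ∈ iZ ⁻¹' V := hVz.symm ▸ rfl
    rwa [Set.mem_preimage, ← Scheme.Hom.comp_apply, hz0] at h
  change IsOpen ({f.asFiber x0} : Set ↥(f.fiber (f x0)))
  convert hV.preimage (f.fiberι (f x0)).continuous using 1
  ext z
  rw [Set.mem_singleton_iff]
  constructor
  · rintro rfl
    rwa [Set.mem_preimage, f.fiberι_asFiber]
  · intro hz
    refine (f.fiberι (f x0)).isEmbedding.injective ?_
    rw [f.fiberι_asFiber]
    refine key _ hz ?_
    have h : f.fiberι (f x0) z ∈ Set.range (f.fiberι (f x0)) := ⟨z, rfl⟩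
    rw [f.range_fiberι] at h
    exact h

variable [IsAlgClosed K]

/-- The image of a twisted Lang map contains a nonempty open. -/
theorem exists_open_subset_range [LocallyOfFiniteType G.hom] [ConnectedSpace G.left] (a : specOver k K ⟶ G) :
    IrreducibleSpace (G ⊗ specOver k K).left ∧
      ∃ U : Set (G ⊗ specOver k K).left, IsOpen U ∧ U.Nonempty ∧ U ⊆ Set.range (twist F K a).left := by
  let T := specOver k K
  haveI : GeometricallyIrreducible G.hom := GrpField.geometricallyIrreducible_of_connected G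
  haveI hirr : IrreducibleSpace (G ⊗ T).left :=
    GeometricallyIrreducible.geometrically_irreducibleSpace (f := G.hom) T.hom _ _ (IsPullback.of_hasPullback G.hom T.hom)
  let p : (G ⊗ T).left ⟶ Spec (CommRingCat.of K) := (snd G T).left
  haveI : LocallyOfFiniteType p := inferInstanceAs (LocallyOfFiniteType (pullback.snd G.hom T.hom))
  haveI : IsAffine T.left := inferInstanceAs (IsAffine (Spec (CommRingCat.of K)))
  haveI : IsAffine (G ⊗ T).left := inferInstanceAs (IsAffine (pullback G.hom T.hom))
  haveI : IsLocallyNoetherian (G ⊗ T).left := LocallyOfFiniteType.isLocallyNoetherian p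
  let f := (twist F K a).left
  haveI : LocallyOfFiniteType (f ≫ p) := by rw [twist_snd]; infer_instance
  haveI : LocallyOfFiniteType f := locallyOfFiniteType_of_comp f p
  let ξ := genericPoint ↥(G ⊗ T).left
  have hξ : f.QuasiFiniteAt ξ := ((genericPoint_spec ↥(G ⊗ T).left).specializes trivial).mem_open
    f.isOpen_quasiFiniteAt (quasiFiniteAt_twist F hF a)
  have h1 := WeilLib.pdim_eq_of_residueDegree_ne_zero p f p (twist_snd F a)
    (Rigid.residueDegree_ne_zero_of_quasiFiniteAt f hξ)
  have hgen : f ξ = ξ := by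
    by_contra hne
    exact absurd h1 (WeilLib.pdim_lt p (genericPoint_specializes (f ξ)) hne).ne
  refine ⟨hirr, exists_open_subset_of_genericPoint ?_ ⟨ξ, hgen⟩⟩
  rw [← Set.image_univ]
  exact f.isConstructible_image .univ

/-- **Lang's theorem on points.** -/
theorem exists_lang_eq [LocallyOfFiniteType G.hom] [ConnectedSpace G.left] (a : specOver k K ⟶ G) :
    ∃ x : specOver k K ⟶ G, x * (x ≫ F)⁻¹ = a := by
  let T := specOver k K
  obtain ⟨hirr, U, hU, hUne, hUa⟩ := exists_open_subset_range F hF a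
  obtain ⟨-, V, hV, hVne, hV1⟩ := exists_open_subset_range F hF (1 : T ⟶ G)
  haveI := hirr
  let p : (G ⊗ T).left ⟶ Spec (CommRingCat.of K) := (snd G T).left
  haveI : LocallyOfFiniteType p := inferInstanceAs (LocallyOfFiniteType (pullback.snd G.hom T.hom))
  haveI : JacobsonSpace (G ⊗ T).left := LocallyOfFiniteType.jacobsonSpace p
  obtain ⟨z, ⟨hzU, hzV⟩, hz⟩ := nonempty_inter_closedPoints (Z := U ∩ V)
    ⟨_, ((genericPoint_spec _).mem_open_set_iff hU).2 (by simpa using hUne),
      ((genericPoint_spec _).mem_open_set_iff hV).2 (by simpa using hVne)⟩ (hU.inter hV).isLocallyClosed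
  let q : T ⟶ G ⊗ T := Over.homMk (pointOfClosedPoint p z hz) (by
    rw [← Over.w (snd G T), ← Category.assoc, pointOfClosedPoint_comp p z hz]
    exact Category.id_comp _)
  have hq : q ≫ snd G T = 𝟙 T := Over.OverMorphism.ext (pointOfClosedPoint_comp p z hz)
  have lifts : ∀ c : T ⟶ G, z ∈ Set.range (twist F K c).left →
      ∃ x : T ⟶ G, x * c * (x ≫ F)⁻¹ = q ≫ fst G T := by
    intro c hc
    obtain ⟨v, hv, hvc⟩ := nonempty_inter_closedPoints (Z := (twist F K c).left ⁻¹' {z}) hc
      (hz.preimage (twist F K c).left.continuous).isLocallyClosed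
    let r : T ⟶ G ⊗ T := Over.homMk (pointOfClosedPoint p v hvc) (by
      rw [← Over.w (snd G T), ← Category.assoc, pointOfClosedPoint_comp p v hvc]
      exact Category.id_comp _)
    have hr : r ≫ snd G T = 𝟙 T := Over.OverMorphism.ext (pointOfClosedPoint_comp p v hvc)
    have e : r ≫ twist F K c = q := Over.OverMorphism.ext (ext_of_apply_closedPoint_eq p
      (by rw [Over.comp_left, Category.assoc, twist_snd]; exact pointOfClosedPoint_comp p v hvc)
      (pointOfClosedPoint_comp p z hz)
      (by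
        rw [Over.comp_left, Scheme.Hom.comp_apply]
        change (twist F K c).left (pointOfClosedPoint p v hvc _) = pointOfClosedPoint p z hz _
        rw [pointOfClosedPoint_apply, pointOfClosedPoint_apply]
        exact hv))
    have hr' : r = lift (r ≫ fst G T) (𝟙 T) := by
      apply CartesianMonoidalCategory.hom_ext <;> simp [hr]
    rw [hr', lift_twist] at e
    exact ⟨r ≫ fst G T, (lift_fst _ _).symm.trans (congrArg (· ≫ fst G T) e)⟩
  obtain ⟨y, hy⟩ := lifts a (hUa hzU)
  obtain ⟨x, hx⟩ := lifts 1 (hV1 hzV)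
  haveI := isMonHom_frob F hF
  refine ⟨y⁻¹ * x, ?_⟩
  rw [MonObj.mul_comp, GrpObj.inv_comp, mul_inv_rev, inv_inv]
  have hb : x * (x ≫ F)⁻¹ = y * a * (y ≫ F)⁻¹ := by rw [hy, ← hx, _root_.mul_one]
  calc y⁻¹ * x * ((x ≫ F)⁻¹ * (y ≫ F)) = y⁻¹ * (x * (x ≫ F)⁻¹) * (y ≫ F) := by group
    _ = a := by rw [hb]; group

/-- **Lang's theorem.** -/
theorem surjective_lang [LocallyOfFiniteType G.hom] [ConnectedSpace G.left] :
    Surjective ((𝟙 G * F⁻¹ : G ⟶ G).left) := by
  refine ⟨fun z => ?_⟩
  let K' := AlgebraicClosure (G.left.residueField z)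
  let φ : CommRingCat.of k ⟶ G.left.residueField z := Spec.preimage (G.left.fromSpecResidueField z ≫ G.hom)
  letI : Algebra k K' := ((algebraMap (G.left.residueField z) K').comp φ.hom).toAlgebra
  let g : Spec (CommRingCat.of K') ⟶ G.left :=
    Spec.map (CommRingCat.ofHom (algebraMap (G.left.residueField z) K')) ≫ G.left.fromSpecResidueField z
  let a : specOver k K' ⟶ G := Over.homMk g (by
    change g ≫ G.hom = Spec.map (CommRingCat.ofHom ((algebraMap (G.left.residueField z) K').comp φ.hom))
    rw [CommRingCat.ofHom_comp, Spec.map_comp, CommRingCat.ofHom_hom, Spec.map_preimage, Category.assoc])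
  obtain ⟨x, hx⟩ := exists_lang_eq F hF a
  refine ⟨x.left (IsLocalRing.closedPoint K'), ?_⟩
  have hxL : x ≫ (𝟙 G * F⁻¹ : G ⟶ G) = a := by
    rw [MonObj.comp_mul, Category.comp_id, GrpObj.comp_inv, hx]
  rw [← Scheme.Hom.comp_apply, ← Over.comp_left, hxL]
  change g _ = z
  rw [Scheme.Hom.comp_apply]
  exact Scheme.fromSpecResidueField_apply _ _

end Groth.Agent.LangMap
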