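import Mathlib.AlgebraicGeometry.AffineScheme
import Mathlib.AlgebraicGeometry.Pullbacks
import Mathlib.CategoryTheory.Monoidal.Cartesian.Over
import Mathlib.CategoryTheory.Monoidal.Cartesian.Grp
import Mathlib.FieldTheory.Finite.Basic
import Mathlib.RingTheory.DualNumber
import Mathlib.RingTheory.Ideal.IdempotentFG
import Mathlib.RingTheory.FiniteType

/-!
# The Frobenius of a group scheme over a finite field, on points
-/

universe u

open CategoryTheory CategoryTheory.Limits MonoidalCategory CartesianMonoidalCategory MonObj AlgebraicGeometry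

namespace Groth.Agent.LangMap

variable (k : Type u) [Field k]

/-- The spectrum of an algebra over the base. -/
noncomputable abbrev specOver (R : Type u) [CommRing R] [Algebra k R] : Over (Spec (CommRingCat.of k)) :=
  Over.mk (Spec.map (CommRingCat.ofHom (algebraMap k R)))

variable {k}

/-- Morphisms of spectra over the base from algebra homomorphisms. -/
noncomputable def specHom {R R' : Type u} [CommRing R] [Algebra k R] [CommRing R'] [Algebra k R'] (φ : R →ₐ[k] R') :
    specOver k R' ⟶ specOver k R :=
  Over.homMk (Spec.map (CommRingCat.ofHom φ.toRingHom)) (by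
    change Spec.map _ ≫ Spec.map _ = Spec.map _
    rw [← Spec.map_comp]
    congr 1
    ext c
    exact φ.commutes c)

theorem specHom_comp {R R' R'' : Type u} [CommRing R] [Algebra k R] [CommRing R'] [Algebra k R'] [CommRing R'']
    [Algebra k R''] (φ : R →ₐ[k] R') (ψ : R' →ₐ[k] R'') : specHom ψ ≫ specHom φ = specHom (ψ.comp φ) := by
  refine Over.OverMorphism.ext ?_
  change Spec.map _ ≫ Spec.map _ = Spec.map _
  rw [← Spec.map_comp]
  rfl

variable [Finite k]

/-- The `q`-power endomorphism. -/
noncomputable def frob (R : Type u) [CommRing R] [Algebra k R] : R →ₐ[k] R :=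
  haveI : Fintype k := Fintype.ofFinite k
  FiniteField.frobeniusAlgHom k R

theorem frob_apply {R : Type u} [CommRing R] [Algebra k R] (r : R) : frob (k := k) R r = r ^ Nat.card k := by
  letI : Fintype k := Fintype.ofFinite k
  rw [Nat.card_eq_fintype_card]
  rfl

variable {G : Over (Spec (CommRingCat.of k))} [IsAffine G.left] (F : G ⟶ G)
  (hF : ∀ s : Γ(G.left, ⊤), F.left.appTop s = s ^ Nat.card k)

include hF

/-- The Frobenius is natural on points. -/
theorem comp_frob {R : Type u} [CommRing R] [Algebra k R] (φ : specOver k R ⟶ G) :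
    φ ≫ F = specHom (frob R) ≫ φ := by
  refine Over.OverMorphism.ext (ext_of_isAffine (CommRingCat.hom_ext (RingHom.ext fun s => ?_)))
  rw [Over.comp_left, Over.comp_left, Scheme.Hom.comp_appTop, Scheme.Hom.comp_appTop, CommRingCat.comp_apply,
    CommRingCat.comp_apply, hF, map_pow]
  obtain ⟨r, hr⟩ : ∃ r, φ.left.appTop s = (Scheme.ΓSpecIso (CommRingCat.of R)).inv r :=
    ⟨(Scheme.ΓSpecIso (CommRingCat.of R)).hom (φ.left.appTop s), by
      rw [← CommRingCat.comp_apply (Scheme.ΓSpecIso _).hom, Iso.hom_inv_id]; rfl⟩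
  rw [hr, ← map_pow]
  change _ = (Spec.map (CommRingCat.ofHom (frob R).toRingHom)).appTop ((Scheme.ΓSpecIso (CommRingCat.of R)).inv r)
  rw [← CommRingCat.comp_apply, ← Scheme.ΓSpecIso_inv_naturality, CommRingCat.comp_apply]
  congr 1
  exact (frob_apply r).symm

/-- The Frobenius is a homomorphism. -/
theorem isMonHom_frob [GrpObj G] : IsMonHom F := by
  have affine_case : ∀ (T : Over (Spec (CommRingCat.of k))) [IsAffine T.left], ∃ (R : Type u) (_ : CommRing R)
      (_ : Algebra k R) (u : specOver k R ⟶ T), IsIso u := by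
    intro T _
    let a : CommRingCat.of k ⟶ Γ(T.left, ⊤) := (Scheme.ΓSpecIso _).inv ≫ T.hom.appTop
    letI : Algebra k Γ(T.left, ⊤) := a.hom.toAlgebra
    have h : T.left.isoSpec.inv ≫ T.hom = Spec.map a := by
      rw [Iso.inv_comp_eq, Spec.map_comp]
      change T.hom = T.left.toSpecΓ ≫ _
      rw [← reassoc_of% (Scheme.toSpecΓ_naturality T.hom)]
      simp
    exact ⟨Γ(T.left, ⊤), inferInstance, inferInstance,
      (Over.isoMk (f := specOver k Γ(T.left, ⊤)) (g := T) T.left.isoSpec.symm h).hom, inferInstance⟩
  refine ⟨?_, ?_⟩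
  · haveI : IsAffine (𝟙_ (Over (Spec (CommRingCat.of k)))).left := inferInstanceAs (IsAffine (Spec _))
    obtain ⟨R, _, _, u, hu⟩ := affine_case (𝟙_ _)
    rw [← cancel_epi u, ← Category.assoc, comp_frob F hF]
    have : specHom (frob R) ≫ u = u := toUnit_unique _ _
    rw [← Category.assoc (specHom (frob R)) u, this]
  · haveI : IsAffine (G ⊗ G).left := inferInstanceAs (IsAffine (pullback G.hom G.hom))
    obtain ⟨R, _, _, u, hu⟩ := affine_case (G ⊗ G)
    have key : u ≫ (F ⊗ₘ F) = specHom (frob R) ≫ u := by
      apply CartesianMonoidalCategory.hom_ext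
      · rw [Category.assoc, tensorHom_fst, ← Category.assoc, comp_frob F hF (u ≫ fst G G), Category.assoc]
      · rw [Category.assoc, tensorHom_snd, ← Category.assoc, comp_frob F hF (u ≫ snd G G), Category.assoc]
    rw [← cancel_epi u, ← Category.assoc, comp_frob F hF (u ≫ μ[G]), ← Category.assoc u, key, Category.assoc]

omit hF in
/-- A point with no nonzero tangent vectors is isolated. -/
theorem isOpen_singleton_of_derivation {K B : Type u} [Field K] [CommRing B] [Algebra K B]
    [Algebra.FiniteType K B] (χ : B →ₐ[K] K)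
    (h : ∀ ψ : B →ₐ[K] DualNumber K, (∀ b, (ψ b).fst = χ b) → ∀ b, (ψ b).snd = 0) :
    IsOpen ({PrimeSpectrum.comap χ.toRingHom ⟨⊥, Ideal.isPrime_bot⟩} : Set (PrimeSpectrum B)) := by
  have hsurj : Function.Surjective χ := fun c => ⟨algebraMap K B c, χ.commutes c⟩
  let m : Ideal B := RingHom.ker χ.toRingHom
  have hm : m.IsMaximal := RingHom.ker_isMaximal_of_surjective _ hsurj
  haveI : IsNoetherianRing B := Algebra.FiniteType.isNoetherianRing K B
  have hres : ∀ b, b - algebraMap K B (χ b) ∈ m := fun b => by
    change χ (b - algebraMap K B (χ b)) = 0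
    rw [map_sub, χ.commutes]
    simp
  have hsq : m * m = m := by
    refine le_antisymm Ideal.mul_le_left fun b hb => ?_
    by_contra hb'
    let W : Submodule K B := Submodule.span K {(1 : B)} ⊔ (m * m).restrictScalars K
    have hbW : b ∉ W := by
      rw [Submodule.mem_sup]
      rintro ⟨y, hy, z, hz, rfl⟩
      obtain ⟨c, rfl⟩ := Submodule.mem_span_singleton.1 hy
      have hz' : χ z = 0 := Ideal.mul_le_left hz
      have hb0 : χ (c • (1 : B) + z) = 0 := hb
      rw [map_add, map_smul, map_one, hz', add_zero, smul_eq_mul, _root_.mul_one] at hb0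
      have hz'' : z ∈ m * m := hz
      rw [hb0, zero_smul, _root_.zero_add] at hb'
      exact hb' hz''
    obtain ⟨φ, hφb, hφW⟩ := Submodule.exists_dual_map_eq_bot_of_notMem hbW inferInstance
    have hW : ∀ w ∈ W, φ w = 0 := fun w hw => by
      have : φ w ∈ Submodule.map φ W := ⟨w, hw, rfl⟩
      rw [hφW] at this
      exact this
    have h1 : φ 1 = 0 := hW _ (le_sup_left (b := (m * m).restrictScalars K) (Submodule.mem_span_singleton_self 1))
    have hmul : ∀ x y, φ (x * y) = χ x * φ y + χ y * φ x := fun x y => by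
      have h2 := hW ((x - algebraMap K B (χ x)) * (y - algebraMap K B (χ y)))
        (le_sup_right (a := Submodule.span K {(1 : B)}) (Ideal.mul_mem_mul (hres x) (hres y)))
      have e : (x - algebraMap K B (χ x)) * (y - algebraMap K B (χ y)) =
          x * y - χ x • y - χ y • x + (χ x * χ y) • (1 : B) := by
        simp only [Algebra.smul_def, map_mul]; ring
      rw [e, map_add, map_sub, map_sub, map_smul, map_smul, map_smul, h1, smul_zero, add_zero,
        smul_eq_mul, smul_eq_mul] at h2
      linear_combination h2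
    let ψ : B →ₐ[K] DualNumber K :=
      { toFun := fun x => (χ x, φ x)
        map_one' := TrivSqZeroExt.ext (map_one χ) h1
        map_mul' := fun x y => TrivSqZeroExt.ext (map_mul χ x y) (by
          change φ (x * y) = χ x • φ y + MulOpposite.op (χ y) • φ x
          rw [hmul, op_smul_eq_smul, smul_eq_mul, smul_eq_mul])
        map_zero' := TrivSqZeroExt.ext (map_zero χ) (map_zero φ)
        map_add' := fun x y => TrivSqZeroExt.ext (map_add χ x y) (map_add φ x y)
        commutes' := fun c => TrivSqZeroExt.ext (χ.commutes c) (by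
          change φ (algebraMap K B c) = 0
          rw [Algebra.algebraMap_eq_smul_one, map_smul, h1, smul_zero]) }
    exact hφb (h ψ (fun _ => rfl) b)
  obtain ⟨e, he, hme⟩ := (Ideal.isIdempotentElem_iff_of_fg m (IsNoetherian.noetherian m)).1 hsq
  convert (PrimeSpectrum.basicOpen (1 - e)).2 using 1
  ext p
  rw [Set.mem_singleton_iff]
  refine ⟨?_, fun hp => PrimeSpectrum.ext (Eq.symm (hm.eq_of_le p.2.ne_top ?_))⟩
  · rintro rfl
    change (1 - e) ∉ m
    intro h1
    have he' : e ∈ m := hme ▸ Ideal.mem_span_singleton_self e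
    exact hm.ne_top ((Ideal.eq_top_iff_one _).2 (by simpa using add_mem h1 he'))
  · rw [hme, Ideal.submodule_span_eq, Ideal.span_singleton_le_iff_mem]
    refine (p.2.mem_or_mem (x := e) (y := 1 - e) ?_).resolve_right hp
    rw [mul_sub, _root_.mul_one, he.eq, sub_self]
    exact zero_mem _

end Groth.Agent.LangMap
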